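import Mathlib.RingTheory.Spectrum.Prime.Homeomorph
import Mathlib.RingTheory.Unramified.Finite
import Mathlib.RingTheory.Unramified.Field
import Mathlib.RingTheory.LocalRing.Length
import Mathlib.FieldTheory.SeparableClosure
import Mathlib.FieldTheory.PurelyInseparable.Basic
import Mathlib.FieldTheory.IsAlgClosed.Basic
import Mathlib.RingTheory.TensorProduct.Finite

/-!
# The local rings of `K ⊗ κ` for a finite extension `κ/k` and `K` algebraically closed
-/

set_option autoImplicit false

universe u

open scoped TensorProduct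

noncomputable section

namespace RamInsepLib

/-- The local ring of `K ⊗ κ` at a prime is a quotient of length the inseparable degree. -/
theorem exists_local_quotient (k κ K : Type u) [Field k] [Field κ] [Field K] [Algebra k κ] [Module.Finite k κ]
    [Algebra k K] [IsAlgClosed K] (P : Ideal (K ⊗[k] κ)) [P.IsPrime] :
    ∃ (Q : Type u) (_ : CommRing Q) (_ : IsLocalRing Q) (π : K ⊗[k] κ →+* Q), Function.Surjective π ∧
      (∀ t ∉ P, IsUnit (π t)) ∧ (∀ t, π t = 0 → ∃ c ∉ P, c * t = 0) ∧
      (Module.length Q Q).toNat = Field.finInsepDegree k κ := by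
  let T := K ⊗[k] κ
  have hbij : Function.Bijective (algebraMap K (T ⧸ P)) := IsAlgClosed.algebraMap_bijective_of_isIntegral
  let φ : T →ₐ[K] K :=
    (AlgEquiv.ofBijective (Algebra.ofId K (T ⧸ P)) hbij).symm.toAlgHom.comp (Ideal.Quotient.mkₐ K P)
  have hφ : ∀ t, φ t = 0 ↔ t ∈ P := fun t => by
    rw [← Ideal.Quotient.eq_zero_iff_mem]
    exact EmbeddingLike.map_eq_zero_iff (f := (AlgEquiv.ofBijective (Algebra.ofId K (T ⧸ P)) hbij).symm)
  let σ : κ →ₐ[k] K := (φ.restrictScalars k).comp Algebra.TensorProduct.includeRight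
  let L : IntermediateField k κ := separableClosure k κ
  letI : Algebra L K := (σ.comp L.val).toRingHom.toAlgebra
  haveI : IsScalarTower k L K := IsScalarTower.of_algebraMap_eq fun r => ((σ.comp L.val).commutes r).symm
  let Q := K ⊗[L] κ
  haveI : IsScalarTower k L Q := inferInstance
  let π : T →ₐ[K] Q := Algebra.TensorProduct.lift (Algebra.ofId K Q)
    ((Algebra.TensorProduct.includeRight : κ →ₐ[L] Q).restrictScalars k) fun _ _ => Commute.all _ _
  have hπ : ∀ (a : K) (b : κ), π (a ⊗ₜ b) = a ⊗ₜ b := fun a b => by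
    show algebraMap K Q a * ((1 : K) ⊗ₜ[L] b) = a ⊗ₜ[L] b
    rw [Algebra.TensorProduct.algebraMap_apply, Algebra.TensorProduct.tmul_mul_tmul, mul_one, one_mul]
    rfl
  have hsurj : Function.Surjective π := fun q => by
    induction q using TensorProduct.induction_on with
    | zero => exact ⟨0, map_zero _⟩
    | tmul a b => exact ⟨a ⊗ₜ b, hπ a b⟩
    | add a b ha hb =>
      obtain ⟨a, rfl⟩ := ha
      obtain ⟨b, rfl⟩ := hb
      exact ⟨a + b, map_add _ _ _⟩
  let σL : κ →ₐ[L] K := { σ.toRingHom with commutes' := fun _ => rfl }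
  let ψ : Q →ₐ[K] K := Algebra.TensorProduct.lift (AlgHom.id K K) σL fun _ _ => Commute.all _ _
  have hψπ : ψ.comp π = φ := Algebra.TensorProduct.ext' fun a b => by
    rw [AlgHom.comp_apply, hπ]
    show a * φ (1 ⊗ₜ b) = φ (a ⊗ₜ b)
    rw [show φ (a ⊗ₜ b) = φ (algebraMap K T a * (1 ⊗ₜ b)) by
      rw [Algebra.TensorProduct.algebraMap_apply, Algebra.TensorProduct.tmul_mul_tmul]; simp, map_mul, φ.commutes]
    rfl
  haveI hsub : Subsingleton (PrimeSpectrum Q) :=
    (PrimeSpectrum.isHomeomorph_comap_of_isPurelyInseparable L κ K).injective.subsingleton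
  have hmax : (RingHom.ker ψ).IsMaximal := RingHom.ker_isMaximal_of_surjective ψ fun a => ⟨algebraMap K Q a, ψ.commutes a⟩
  haveI : IsLocalRing Q := IsLocalRing.of_unique_max_ideal ⟨_, hmax, fun I hI =>
    congrArg PrimeSpectrum.asIdeal (Subsingleton.elim (⟨I, hI.isPrime⟩ : PrimeSpectrum Q) ⟨_, hmax.isPrime⟩)⟩
  have hm : RingHom.ker ψ = IsLocalRing.maximalIdeal Q := IsLocalRing.eq_maximalIdeal hmax
  refine ⟨Q, inferInstance, inferInstance, π.toRingHom, hsurj, fun t ht => ?_, ?_, ?_⟩
  · refine IsLocalRing.notMem_maximalIdeal.1 fun h => ht ((hφ t).1 ?_)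
    rw [← hm, RingHom.mem_ker] at h
    rw [← hψπ]
    exact h
  · -- the idempotent of the separable part
    let j : L ⊗[k] L →ₐ[k] T := Algebra.TensorProduct.map (IsScalarTower.toAlgHom k L K) L.val
    haveI : Algebra.IsSeparable k L := separableClosure.isSeparable k κ
    haveI : Algebra.FormallyUnramified k L := Algebra.FormallyUnramified.of_isSeparable k L
    let c : T := j (Algebra.FormallyUnramified.elem k L)
    have hc : c ∉ P := fun h => by
      have h0 := (hφ c).2 h
      have hcomp : (φ.restrictScalars k).comp j = (σ.comp L.val).comp (Algebra.TensorProduct.lmul' k) := by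
        refine Algebra.TensorProduct.ext' fun a b => ?_
        show φ (algebraMap L K a ⊗ₜ (b : κ)) = σ ((a * b : L) : κ)
        rw [show (algebraMap L K a ⊗ₜ (b : κ) : T) = algebraMap K T (algebraMap L K a) * ((1 : K) ⊗ₜ[k] (b : κ)) by
          rw [Algebra.TensorProduct.algebraMap_apply, Algebra.TensorProduct.tmul_mul_tmul]; simp, map_mul, φ.commutes,
          IntermediateField.coe_mul, map_mul]
        rfl
      rw [show φ c = ((φ.restrictScalars k).comp j) (Algebra.FormallyUnramified.elem k L) from rfl, hcomp,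
        AlgHom.comp_apply, Algebra.FormallyUnramified.lmul_elem, map_one] at h0
      exact one_ne_zero h0
    have hswap : ∀ l : L, ((algebraMap L K l) ⊗ₜ[k] (1 : κ) : T) * c = ((1 : K) ⊗ₜ[k] (l : κ)) * c := fun l => by
      have h := congrArg j (Algebra.FormallyUnramified.one_tmul_mul_elem (R := k) (S := L) l)
      rw [map_mul, map_mul] at h
      have e1 : j ((1 : L) ⊗ₜ[k] l) = (1 : K) ⊗ₜ[k] (l : κ) := by
        show (algebraMap L K 1) ⊗ₜ[k] (l : κ) = _
        rw [map_one]
      have e2 : j (l ⊗ₜ[k] (1 : L)) = (algebraMap L K l) ⊗ₜ[k] (1 : κ) := rfl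
      rw [e1, e2] at h
      exact h.symm
    let g : Q →+ T := TensorProduct.liftAddHom
      (AddMonoidHom.mk' (fun a => AddMonoidHom.mk' (fun b => c * (a ⊗ₜ[k] b)) fun b b' => by
        rw [TensorProduct.tmul_add, mul_add]) fun a a' => by
          ext b
          show c * ((a + a') ⊗ₜ[k] b) = c * (a ⊗ₜ b) + c * (a' ⊗ₜ b)
          rw [TensorProduct.add_tmul, mul_add])
      (fun l a b => by
        show c * ((l • a) ⊗ₜ[k] b) = c * (a ⊗ₜ[k] (l • b))
        rw [Algebra.smul_def, Algebra.smul_def,
          show ((algebraMap L K l * a) ⊗ₜ[k] b : T) = ((algebraMap L K l) ⊗ₜ[k] (1 : κ)) * (a ⊗ₜ b) by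
            rw [Algebra.TensorProduct.tmul_mul_tmul, one_mul],
          show (a ⊗ₜ[k] (algebraMap L κ l * b) : T) = ((1 : K) ⊗ₜ[k] (l : κ)) * (a ⊗ₜ b) by
            rw [Algebra.TensorProduct.tmul_mul_tmul, one_mul]; rfl,
          ← mul_assoc, ← mul_assoc, mul_comm c, mul_comm c, hswap])
    have hg : ∀ t, g (π t) = c * t := fun t => by
      induction t using TensorProduct.induction_on with
      | zero => rw [map_zero, map_zero, mul_zero]
      | tmul a b => rw [hπ]; rfl
      | add a b ha hb => rw [map_add, map_add, ha, hb, mul_add]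
    exact fun t ht => ⟨c, hc, by rw [← hg, show π t = 0 from ht, map_zero]⟩
  · haveI : Module.Finite L κ := Module.Finite.of_restrictScalars_finite k L κ
    haveI : IsLocalHom (algebraMap K Q) := inferInstance
    have hres : Function.Bijective (algebraMap (IsLocalRing.ResidueField K) (IsLocalRing.ResidueField Q)) := by
      refine ⟨RingHom.injective _, fun z => ?_⟩
      obtain ⟨q, rfl⟩ := IsLocalRing.residue_surjective z
      refine ⟨IsLocalRing.residue K (ψ q), ?_⟩
      rw [IsLocalRing.ResidueField.algebraMap_residue]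
      refine Ideal.Quotient.eq.2 ?_
      rw [← hm, RingHom.mem_ker, map_sub, ψ.commutes]
      exact sub_self _
    have h1 : Module.length (IsLocalRing.ResidueField K) (IsLocalRing.ResidueField Q) = 1 := by
      rw [← (LinearEquiv.ofBijective (Algebra.linearMap _ _) hres).length_eq, Module.length_eq_one_iff]
      infer_instance
    have h := IsLocalRing.length_restrictScalars K Q Q
    rw [h1, mul_one, Module.length_eq_finrank, Module.finrank_baseChange] at h
    rw [← h, ENat.toNat_natCast]
    rfl

end RamInsepLib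

end
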